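import Cfsg.Agent.Lib.Elem70.SCNC.Klein
import Cfsg.Agent.Lib.Involutions.BaerSuzuki
import Cfsg.Agent.Lib.Cores.Basic
import Cfsg.Agent.Lib.ZStar.UniqueCase
import Cfsg.Agent.Lib.ZStar.Consequences
import Cfsg.Agent.Lib.ZStar.StronglyClosed

/-!
Simple groups with self-centralising non-cyclic subgroups: involution centralisers are 2-groups,
there is no elementary abelian subgroup of order 8, and three divides the order once eight does.
-/

set_option autoImplicit false
set_option linter.unusedSectionVars false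
set_option linter.style.haveILetI false

namespace Cfsg.Agent.Lib.Elem70.SCNC

open Cfsg.Agent.Lib.Involutions.Basic

universe u

variable {G : Type u} [Group G]

/-- Self-centralising non-cyclic subgroups. -/
def Prop' (G : Type u) [Group G] : Prop :=
  ∀ H : Subgroup G, ¬ IsCyclic ↥H → Subgroup.centralizer (H : Set G) ≤ H

/-- The four-group of two commuting involutions. -/
def four {c y : G} (hc : c * c = 1) (hy : y * y = 1) (hcy : Commute c y) : Subgroup G where
  carrier := {g | g = 1 ∨ g = c ∨ g = y ∨ g = c * y}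
  one_mem' := Or.inl rfl
  mul_mem' := by
    have hyc : y * c = c * y := hcy.eq.symm
    have hc1 : ∀ a : G, c * (c * a) = a := fun a => by rw [← mul_assoc, hc, one_mul]
    have hy1 : ∀ a : G, y * (y * a) = a := fun a => by rw [← mul_assoc, hy, one_mul]
    have hyc1 : ∀ a : G, y * (c * a) = c * (y * a) := fun a => by rw [← mul_assoc, hyc, mul_assoc]
    rintro a b (rfl | rfl | rfl | rfl) (rfl | rfl | rfl | rfl) <;>
      simp [mul_assoc, hc, hy, hyc, hc1, hy1, hyc1]
  inv_mem' := by
    rintro a (rfl | rfl | rfl | rfl) <;>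
      simp [inv_eq_of_mul_eq_one_right hc, inv_eq_of_mul_eq_one_right hy, hcy.eq.symm]

theorem mem_four {c y : G} {hc : c * c = 1} {hy : y * y = 1} {hcy : Commute c y} {g : G} :
    g ∈ four hc hy hcy ↔ g = 1 ∨ g = c ∨ g = y ∨ g = c * y := Iff.rfl

theorem not_isCyclic_of_two {H : Subgroup G} [Finite H] {a b : G} (ha : a ∈ H) (hb : b ∈ H)
    (hao : orderOf a = 2) (hbo : orderOf b = 2) (hab : a ≠ b) : ¬ IsCyclic H := by
  classical
  intro hcyc
  haveI := Fintype.ofFinite H
  have h2 : 2 ∣ Fintype.card H := by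
    rw [← hao, ← Subgroup.orderOf_mk a ha]; exact orderOf_dvd_card
  have hu := IsCyclic.card_orderOf_eq_totient (α := H) h2
  rw [Nat.totient_two, Finset.card_eq_one] at hu
  obtain ⟨z, hz⟩ := hu
  have key : ∀ (r : G) (hr : r ∈ H), orderOf r = 2 → (⟨r, hr⟩ : H) = z := fun r hr hro => by
    have : (⟨r, hr⟩ : H) ∈ ({z} : Finset H) := by
      rw [← hz]; simp [Subgroup.orderOf_mk, hro]
    simpa using this
  exact hab (congrArg Subtype.val ((key a ha hao).trans (key b hb hbo).symm))

/-- A four-group is its own centraliser. -/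
theorem Prop'.four_self [Finite G] (h : Prop' G) {c y g : G} (hc : orderOf c = 2) (hy : orderOf y = 2)
    (hne : c ≠ y) (hcy : Commute c y) (hgc : Commute g c) (hgy : Commute g y) :
    g = 1 ∨ g = c ∨ g = y ∨ g = c * y := by
  have hcc := invol_mul_self hc
  have hyy := invol_mul_self hy
  refine (mem_four (hc := hcc) (hy := hyy) (hcy := hcy)).1
    (h _ (not_isCyclic_of_two (a := c) (b := y) (Or.inr (Or.inl rfl)) (Or.inr (Or.inr (Or.inl rfl)))
      hc hy hne) ?_)
  rw [Subgroup.mem_centralizer_iff]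
  rintro k (rfl | rfl | rfl | rfl)
  · rw [one_mul, mul_one]
  · exact hgc.eq.symm
  · exact hgy.eq.symm
  · exact (hgc.mul_right hgy).eq.symm

/-- No elementary abelian subgroup of order above four. -/
theorem Prop'.card_le_four [Finite G] (h : Prop' G) (B : Subgroup G)
    (hcomm : ∀ a ∈ B, ∀ b ∈ B, a * b = b * a) (hsq : ∀ b ∈ B, b * b = 1) : Nat.card B ≤ 4 := by
  classical
  haveI := Fintype.ofFinite G
  by_contra hlt
  rw [not_le, Nat.card_eq_fintype_card, Fintype.card_subtype] at hlt
  have hord : ∀ b ∈ B, b ≠ 1 → orderOf b = 2 := fun b hb hb1 =>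
    orderOf_eq_prime (p := 2) (by rw [sq, hsq b hb]) hb1
  obtain ⟨a, ha, ha1⟩ : ∃ a ∈ B, a ≠ 1 := by
    by_contra hno
    push Not at hno
    have := Finset.card_le_card (show (Finset.univ.filter fun x => x ∈ B) ⊆ {1} from
      fun x hx => by simpa using hno x (Finset.mem_filter.1 hx).2)
    rw [Finset.card_singleton] at this
    omega
  obtain ⟨b, hb, hb1, hba⟩ : ∃ b ∈ B, b ≠ 1 ∧ b ≠ a := by
    by_contra hno
    push Not at hno
    have := Finset.card_le_card (show (Finset.univ.filter fun x => x ∈ B) ⊆ {1, a} from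
      fun x hx => by
        by_cases h1 : x = 1
        · simp [h1]
        · simp [hno x (Finset.mem_filter.1 hx).2 h1])
    have h2 := Finset.card_le_two (a := (1 : G)) (b := a)
    omega
  have := Finset.card_le_card (show (Finset.univ.filter fun x => x ∈ B) ⊆ {1, a, b, a * b} from
    fun x hx => by
      have hxB := (Finset.mem_filter.1 hx).2
      simpa using h.four_self (hord a ha ha1) (hord b hb hb1) (Ne.symm hba) (hcomm a ha b hb)
        (hcomm x hxB a ha) (hcomm x hxB b hb))
  have h4 := Finset.card_le_four (a := (1 : G)) (b := a) (c := b) (d := a * b)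
  omega

/-- No involution centralising an involution `t` inverts an odd element of the centraliser of `t`. -/
theorem Prop'.not_inverted [Finite G] (h : Prop' G) {t s x : G} (ht : orderOf t = 2)
    (hs : orderOf s = 2) (hst : Commute s t) (hxt : Commute x t) (hx : Odd (orderOf x))
    (hinv : s * x * s⁻¹ = x⁻¹) : x = 1 := by
  by_contra hx1
  have hx2 : x⁻¹ ≠ x := fun e => by
    have h2 : x ^ 2 = 1 := by rw [sq]; nth_rewrite 1 [← e]; rw [inv_mul_cancel]
    have := Nat.le_of_dvd (by norm_num) (orderOf_dvd_of_pow_eq_one h2)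
    have h0 := orderOf_pos x
    have h1 : orderOf x ≠ 1 := fun e1 => hx1 (orderOf_eq_one_iff.1 e1)
    rw [Nat.odd_iff] at hx
    omega
  set X := Subgroup.zpowers x
  set Y := Subgroup.zpowers s
  have hnorm : Y ≤ Subgroup.normalizer (X : Set G) := by
    rw [Subgroup.zpowers_le]
    refine Subgroup.mem_normalizer_iff_map_conj_eq.2 ?_
    rw [MonoidHom.map_zpowers]
    show Subgroup.zpowers (s * x * s⁻¹) = X
    rw [hinv, Subgroup.zpowers_inv]
  have hsx : ¬ Commute s x := fun hc => hx2 (by rw [← hinv, hc.eq, mul_inv_cancel_right])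
  have hnc : ¬ IsCyclic (X ⊔ Y : Subgroup G) := fun hc => hsx (by
    letI := hc.commGroup
    exact congrArg Subtype.val (mul_comm (⟨s, (le_sup_right : Y ≤ X ⊔ Y) (Subgroup.mem_zpowers s)⟩ :
      (X ⊔ Y : Subgroup G)) ⟨x, (le_sup_left : X ≤ X ⊔ Y) (Subgroup.mem_zpowers x)⟩))
  have htH : t ∈ (X ⊔ Y : Subgroup G) := h _ hnc (by
    rw [Subgroup.mem_centralizer_iff]
    intro k hk
    have hle : (X ⊔ Y : Subgroup G) ≤ Subgroup.centralizer ({t} : Set G) :=
      sup_le (Subgroup.zpowers_le.2 (Subgroup.mem_centralizer_singleton_iff.2 hxt.eq))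
        (Subgroup.zpowers_le.2 (Subgroup.mem_centralizer_singleton_iff.2 hst.eq))
    exact Subgroup.mem_centralizer_singleton_iff.1 (hle hk))
  rw [← SetLike.mem_coe, Subgroup.coe_mul_of_right_le_normalizer_left X Y hnorm] at htH
  obtain ⟨a, ha, b, hb, hab⟩ := htH
  obtain ⟨i, rfl⟩ := Subgroup.mem_zpowers_iff.1 ha
  obtain ⟨j, rfl⟩ := Subgroup.mem_zpowers_iff.1 hb
  simp only at hab
  have hbx : Commute (s ^ j) x := by
    have : s ^ j = (x ^ i)⁻¹ * t := by rw [← hab, inv_mul_cancel_left]
    rw [this]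
    exact ((Commute.refl x).zpow_left i).inv_left.mul_left hxt.symm
  rcases Int.even_or_odd j with ⟨m, hm⟩ | ⟨m, hm⟩
  · have hsj : s ^ j = 1 := by
      rw [hm, ← two_mul, zpow_mul, zpow_two, invol_mul_self hs, one_zpow]
    rw [hsj, mul_one] at hab
    have hd : orderOf t ∣ orderOf x := hab ▸ orderOf_dvd_of_mem_zpowers (Subgroup.zpow_mem_zpowers x i)
    rw [ht] at hd
    exact Nat.not_even_iff_odd.2 hx (even_iff_two_dvd.2 hd)
  · have hsj : s ^ j = s := by
      rw [hm, zpow_add_one, zpow_mul, zpow_two, invol_mul_self hs, one_zpow, one_mul]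
    exact hsx (hsj ▸ hbx)

variable [Finite G] [IsSimpleGroup G]

theorem oddCore_trivial {t : G} (ht : orderOf t = 2) {N : Subgroup G} (hN : N.Normal)
    (hodd : Odd (Nat.card N)) : N = ⊥ := by
  rcases hN.eq_bot_or_eq_top with h | h
  · exact h
  · rw [h, Subgroup.card_top] at hodd
    exact absurd (even_iff_two_dvd.2 (ht ▸ orderOf_dvd_natCard t)) (Nat.not_even_iff_odd.2 hodd)

theorem center_trivial (hna : ¬ IsMulCommutative G) : Subgroup.center G = ⊥ := by
  rcases (inferInstance : (Subgroup.center G).Normal).eq_bot_or_eq_top with h | h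
  · exact h
  · exact absurd ⟨⟨fun a b => (Subgroup.mem_center_iff.1 (h ▸ Subgroup.mem_top a) b).symm⟩⟩ hna

theorem exists_commuting (hna : ¬ IsMulCommutative G) {t : G} (ht : orderOf t = 2) :
    ∃ s : G, orderOf s = 2 ∧ s ≠ t ∧ Commute t s := by
  by_contra hno
  push Not at hno
  have hu : ∀ x : G, orderOf x = 2 → Commute t x → x = t := fun x hx hc => by
    by_contra hne
    exact hno x hx hne hc
  have := ZStar.UniqueCase.mem_center_aux (Nat.card G) G t rfl ht hu fun N hN ho =>
    oddCore_trivial ht hN ho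
  rw [center_trivial hna, Subgroup.mem_bot] at this
  exact invol_ne_one ht this

/-- The centralisers of involutions are 2-groups. -/
theorem Prop'.cit (h : Prop' G) (hna : ¬ IsMulCommutative G) {t : G} (ht : orderOf t = 2) :
    IsPGroup 2 (Subgroup.centralizer ({t} : Set G)) := by
  classical
  set C := Subgroup.centralizer ({t} : Set G) with hC
  haveI : Fact (Nat.Prime 2) := ⟨Nat.prime_two⟩
  by_contra hnp
  obtain ⟨p, hp, hpd, hp2⟩ : ∃ p, p.Prime ∧ p ∣ Nat.card C ∧ p ≠ 2 := by
    by_contra hno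
    push Not at hno
    exact hnp (IsPGroup.of_card (n := (Nat.card C).primeFactorsList.length)
      (Nat.eq_prime_pow_of_unique_prime_dvd Nat.card_pos.ne' fun hq hd => hno _ hq hd))
  haveI : Fact p.Prime := ⟨hp⟩
  obtain ⟨x, hx⟩ := exists_prime_orderOf_dvd_card' p hpd
  have htC : t ∈ C := Subgroup.mem_centralizer_singleton_iff.2 rfl
  set O := Cfsg.pCore 2 C
  haveI : O.Normal := inferInstance
  -- the involutions of the centraliser lie in its 2-core
  have hall : ∀ s : C, orderOf s = 2 → s ∈ O := by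
    intro s hs
    by_contra hsO
    obtain ⟨y, hy1, hyo, hyi⟩ := Involutions.BaerSuzuki.exists_odd_inverted s hs
      fun N hN hNp hm => hsO (Cores.le_pCore (hN := hN) hNp hm)
    exact hy1 (Subtype.ext (h.not_inverted ht (by rw [Subgroup.orderOf_coe, hs])
      (Subgroup.mem_centralizer_singleton_iff.1 s.2)
      (Subgroup.mem_centralizer_singleton_iff.1 y.2)
      (by rwa [Subgroup.orderOf_coe]) (congrArg Subtype.val hyi)))
  have htO : (⟨t, htC⟩ : C) ∈ O := hall _ (by rw [Subgroup.orderOf_mk, ht])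
  set tO : O := ⟨⟨t, htC⟩, htO⟩
  have hφp : (MulAut.conjNormal (H := O) x) ^ p = 1 := by
    rw [← map_pow, ← hx, pow_orderOf_eq_one, map_one]
  have hinv : ∀ s : Klein.Oth tO, orderOf (((s : O) : C) : G) = 2 := fun s => by
    rw [Subgroup.orderOf_coe, Subgroup.orderOf_coe]
    exact orderOf_eq_prime (p := 2) (by rw [sq, s.2.1]) s.2.2.1
  have hst : ∀ s : Klein.Oth tO, Commute t (((s : O) : C) : G) := fun s =>
    (Subgroup.mem_centralizer_singleton_iff.1 (s : O).1.2).symm
  have hne : ∀ s : Klein.Oth tO, t ≠ (((s : O) : C) : G) := fun s e =>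
    s.2.2.2 (Subtype.ext (Subtype.ext e.symm))
  obtain ⟨s, hs⟩ := Klein.exists_fixed (Cores.pCore_isPGroup 2) hp hp2
    (MulAut.conjNormal (H := O) x) hφp (t := tO)
    (Subtype.ext (Subtype.ext (invol_mul_self ht)))
    (fun e => invol_ne_one ht (congrArg (fun z : O => ((z : C) : G)) e))
    (fun g => Subtype.ext (Subtype.ext (Subgroup.mem_centralizer_singleton_iff.1 g.1.2)))
    (Subtype.ext (by
      rw [MulAut.conjNormal_apply]
      refine Subtype.ext ?_
      show (x : G) * t * (x : G)⁻¹ = t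
      rw [Subgroup.mem_centralizer_singleton_iff.1 x.2, mul_inv_cancel_right]))
    (by
      obtain ⟨s, hs, hsne, hsc⟩ := exists_commuting hna ht
      have hsC : s ∈ C := Subgroup.mem_centralizer_singleton_iff.2 hsc.eq.symm
      refine ⟨⟨⟨⟨s, hsC⟩, hall _ (by rw [Subgroup.orderOf_mk, hs])⟩,
        Subtype.ext (Subtype.ext (invol_mul_self hs)),
        fun e => invol_ne_one hs (congrArg (fun z : O => ((z : C) : G)) e),
        fun e => hsne (congrArg (fun z : O => ((z : C) : G)) e)⟩⟩)
    fun s => by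
      have e : (Subgroup.centralizer ({(s : O)} : Set O) : Set O) =
          (({1, tO, (s : O), tO * (s : O)} : Finset O) : Set O) := by
        ext g
        simp only [SetLike.mem_coe, Subgroup.mem_centralizer_singleton_iff, Finset.coe_insert,
          Finset.coe_singleton, Set.mem_insert_iff, Set.mem_singleton_iff]
        constructor
        · intro hg
          rcases h.four_self ht (hinv s) (hne s) (hst s)
            (Subgroup.mem_centralizer_singleton_iff.1 g.1.2)
            (congrArg (fun z : O => ((z : C) : G)) hg) with e | e | e | e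
          · exact Or.inl (Subtype.ext (Subtype.ext e))
          · exact Or.inr (Or.inl (Subtype.ext (Subtype.ext e)))
          · exact Or.inr (Or.inr (Or.inl (Subtype.ext (Subtype.ext e))))
          · exact Or.inr (Or.inr (Or.inr (Subtype.ext (Subtype.ext e))))
        · have htc : Commute tO (s : O) := Subtype.ext (Subtype.ext (hst s).eq)
          rintro (rfl | rfl | rfl | rfl)
          · rw [one_mul, mul_one]
          · exact htc.eq
          · rfl
          · exact (htc.mul_left (Commute.refl _)).eq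
      change Nat.card (Subgroup.centralizer ({(s : O)} : Set O) : Set O) = 4
      rw [e, Nat.card_coe_set_eq, Set.ncard_coe_finset]
      have h1 : tO ≠ 1 := fun e => invol_ne_one ht (congrArg (fun z : O => ((z : C) : G)) e)
      have h2 : tO * (s : O) ≠ 1 := fun e => s.2.2.2
        ((inv_eq_of_mul_eq_one_right e).symm.trans (inv_eq_of_mul_eq_one_right
          (Subtype.ext (Subtype.ext (invol_mul_self ht)))))
      rw [Finset.card_insert_of_notMem, Finset.card_insert_of_notMem, Finset.card_insert_of_notMem,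
        Finset.card_singleton] <;>
        simp [h1, Ne.symm h1, Ne.symm s.2.2.1, Ne.symm s.2.2.2, Ne.symm h2, s.2.2.1, s.2.2.2]
  have hsx : Commute (x : G) (((s : O) : C) : G) := by
    have e := congrArg (fun z : O => ((z : C) : G)) hs
    simp only [MulAut.conjNormal_apply, Subgroup.coe_mul, Subgroup.coe_inv] at e
    exact mul_inv_eq_iff_eq_mul.1 e
  have hxo : orderOf (x : G) = p := by rw [Subgroup.orderOf_coe, hx]
  have h22 : (x : G) ^ 2 = 1 := by
    have hss := invol_mul_self (hinv s)
    have htt := invol_mul_self ht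
    rcases h.four_self ht (hinv s) (hne s) (hst s)
      (Subgroup.mem_centralizer_singleton_iff.1 x.2) hsx with e | e | e | e <;> rw [e, sq]
    · rw [one_mul]
    · exact htt
    · exact hss
    · rw [(hst s).symm.mul_mul_mul_comm, htt, hss, one_mul]
  have := orderOf_dvd_of_pow_eq_one h22
  rw [hxo, Nat.prime_dvd_prime_iff_eq hp Nat.prime_two] at this
  exact hp2 this

/-- Three divides the order as soon as eight does. -/
theorem Prop'.three_dvd (h : Prop' G) (hna : ¬ IsMulCommutative G) (h8 : 8 ∣ Nat.card G) :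
    3 ∣ Nat.card G := by
  classical
  haveI : Fact (Nat.Prime 2) := ⟨Nat.prime_two⟩
  obtain ⟨S⟩ : Nonempty (Sylow 2 G) := inferInstance
  have hS8 : 2 ^ 3 ∣ Nat.card (S : Subgroup G) := S.pow_dvd_card_of_pow_dvd_card h8
  haveI : Nontrivial (S : Subgroup G) := by
    rw [← Finite.one_lt_card_iff_nontrivial]
    have := Nat.le_of_dvd Nat.card_pos hS8
    omega
  haveI := S.2.center_nontrivial
  obtain ⟨m, hm0, hm⟩ := (S.2.to_subgroup (Subgroup.center (S : Subgroup G))).nontrivial_iff_card.1
    inferInstance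
  obtain ⟨z', hz'⟩ := exists_prime_orderOf_dvd_card' 2
    (hm ▸ dvd_pow_self 2 (by omega) : 2 ∣ Nat.card (Subgroup.center (S : Subgroup G)))
  set z : G := ((z' : (S : Subgroup G)) : G)
  have hz : orderOf z = 2 := by rw [Subgroup.orderOf_coe, Subgroup.orderOf_coe, hz']
  have hzS : z ∈ S := (z' : (S : Subgroup G)).2
  have hzc : ∀ a ∈ (S : Subgroup G), Commute a z := fun a ha =>
    congrArg Subtype.val (Subgroup.mem_center_iff.1 z'.2 ⟨a, ha⟩)
  obtain ⟨g, hgS, hgz⟩ : ∃ g : G, g * z * g⁻¹ ∈ S ∧ g * z * g⁻¹ ≠ z := by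
    by_contra hno
    push Not at hno
    have hiso : ZStar.Elements.IsolatedIn S z := ⟨hzS, hno⟩
    have hb : Cfsg.oddCore G = ⊥ := oddCore_trivial hz (by unfold Cfsg.oddCore; infer_instance)
      ZStar.Elements.oddCore_odd
    have : z ∈ Subgroup.center G := Subgroup.mem_center_iff.2 fun a => by
      have := ZStar.Elements.commutator_mem_oddCore ZStar.StronglyClosed.involutionThm _ G S z rfl
        hiso a
      rw [hb, Subgroup.mem_bot, mul_inv_eq_one, mul_inv_eq_iff_eq_mul] at this
      exact this.symm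
    rw [center_trivial hna, Subgroup.mem_bot] at this
    exact invol_ne_one hz this
  set s := g * z * g⁻¹
  have hs : orderOf s = 2 := (orderOf_conj_eq g z).trans hz
  -- an element of the centraliser of `c` interchanging `d` and `c * d`
  have key : ∀ c d : G, orderOf c = 2 → orderOf d = 2 → c ≠ d → Commute c d →
      8 ∣ Nat.card (Subgroup.centralizer ({c} : Set G)) → ∃ n : G, Commute n c ∧ n * d * n⁻¹ = c * d := by
    intro c d hc hd hne hcd hc8
    set C := Subgroup.centralizer ({c} : Set G)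
    set V := four (invol_mul_self hc) (invol_mul_self hd) hcd
    have hVC : V ≤ C := fun a ha => by
      refine Subgroup.mem_centralizer_singleton_iff.2 ?_
      rcases mem_four.1 ha with rfl | rfl | rfl | rfl
      · rw [one_mul, mul_one]
      · rfl
      · exact hcd.eq.symm
      · exact ((Commute.refl c).mul_left hcd.symm).eq
    have hVp : IsPGroup 2 (V.subgroupOf C) := fun a => ⟨1, Subtype.ext (Subtype.ext (by
      show (((a : C) : G)) ^ 2 ^ 1 = 1
      have hc' := invol_mul_self hc
      have hd' := invol_mul_self hd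
      rcases mem_four.1 (Subgroup.mem_subgroupOf.1 a.2) with e | e | e | e <;> rw [e, pow_one, sq]
      · rw [one_mul]
      · exact hc'
      · exact hd'
      · rw [hcd.symm.mul_mul_mul_comm, hc', hd', one_mul]))⟩
    obtain ⟨T, hT⟩ := hVp.exists_le_sylow
    have hlt : V.subgroupOf C < (T : Subgroup C) := by
      refine lt_of_le_of_ne hT fun e => ?_
      have h1 : 2 ^ 3 ∣ Nat.card (T : Subgroup C) := T.pow_dvd_card_of_pow_dvd_card hc8
      have h2 : Nat.card (V.subgroupOf C) ≤ 4 := by
        rw [Nat.card_congr (Subgroup.subgroupOfEquivOfLe hVC).toEquiv]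
        refine h.card_le_four V ?_ ?_
        · intro a ha b hb
          have hcm : ∀ a ∈ V, Commute a c := fun a ha =>
            Subgroup.mem_centralizer_singleton_iff.1 (hVC ha)
          have hdm : ∀ a ∈ V, Commute a d := fun a ha => by
            rcases mem_four.1 ha with rfl | rfl | rfl | rfl
            · exact Commute.one_left _
            · exact hcd
            · exact Commute.refl _
            · exact hcd.mul_left (Commute.refl d)
          rcases mem_four.1 hb with rfl | rfl | rfl | rfl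
          · rw [one_mul, mul_one]
          · exact (hcm a ha).eq
          · exact (hdm a ha).eq
          · exact ((hcm a ha).mul_right (hdm a ha)).eq
        · intro a ha
          obtain ⟨k, hk⟩ := hVp ⟨⟨a, hVC ha⟩, ha⟩
          rcases mem_four.1 ha with rfl | rfl | rfl | rfl
          · rw [one_mul]
          · exact invol_mul_self hc
          · exact invol_mul_self hd
          · rw [hcd.symm.mul_mul_mul_comm, invol_mul_self hc, invol_mul_self hd, one_mul]
      have := Nat.le_of_dvd Nat.card_pos h1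
      rw [← e] at this
      omega
    haveI : Group.IsNilpotent (T : Subgroup C) := T.2.isNilpotent
    have hgrow := Group.normalizerCondition_of_isNilpotent (G := (T : Subgroup C))
      ((V.subgroupOf C).subgroupOf T) (lt_of_le_of_ne le_top fun e => hlt.not_ge
        (Subgroup.subgroupOf_eq_top.1 e))
    obtain ⟨n, hn, hnV⟩ := SetLike.exists_of_lt hgrow
    have hnc : Commute ((n : C) : G) c := Subgroup.mem_centralizer_singleton_iff.1 (n : C).2
    refine ⟨((n : C) : G), hnc, ?_⟩
    have hdC : d ∈ C := hVC (mem_four.2 (Or.inr (Or.inr (Or.inl rfl))))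
    have hmem := (Subgroup.mem_normalizer_iff.1 hn ⟨⟨d, hdC⟩, hT (Subgroup.mem_subgroupOf.2
      (mem_four.2 (Or.inr (Or.inr (Or.inl rfl)))))⟩).1
      (Subgroup.mem_subgroupOf.2 (Subgroup.mem_subgroupOf.2 (mem_four.2 (Or.inr (Or.inr (Or.inl rfl))))))
    rcases mem_four.1 (Subgroup.mem_subgroupOf.1 (Subgroup.mem_subgroupOf.1 hmem)) with e | e | e | e
    · exact absurd ((orderOf_conj_eq _ d).symm.trans ((congrArg orderOf e).trans orderOf_one))
        (by rw [hd]; norm_num)
    · have e' : ((n : C) : G) * d * ((n : C) : G)⁻¹ = c := e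
      refine absurd ?_ hne
      calc c = ((n : C) : G)⁻¹ * (c * ((n : C) : G)) := by rw [← hnc.eq, inv_mul_cancel_left]
        _ = d := by rw [← e']; group
    · have e' : Commute ((n : C) : G) d := mul_inv_eq_iff_eq_mul.1 e
      exact absurd (mem_four.2 (h.four_self hc hd hne hcd hnc e'))
        fun hv => hnV (Subgroup.mem_subgroupOf.2 (Subgroup.mem_subgroupOf.2 hv))
    · exact e
  have hzs : Commute s z := hzc s hgS
  have hne : z ≠ s := Ne.symm hgz
  have hC8 : 8 ∣ Nat.card (Subgroup.centralizer ({z} : Set G)) :=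
    hS8.trans (Subgroup.card_dvd_of_le fun a ha =>
      Subgroup.mem_centralizer_singleton_iff.2 (hzc a ha).eq)
  obtain ⟨n₁, hn1, hn1'⟩ := key z s hz hs hne hzs.symm hC8
  obtain ⟨n₂, hn2, hn2'⟩ := key s z hs hz hgz hzs (by
    have hle : (S : Subgroup G).map (MulAut.conj g).toMonoidHom ≤ Subgroup.centralizer ({s} : Set G) := by
      rintro _ ⟨a, ha, rfl⟩
      refine Subgroup.mem_centralizer_singleton_iff.2 ?_
      show g * a * g⁻¹ * (g * z * g⁻¹) = g * z * g⁻¹ * (g * a * g⁻¹)
      rw [show g * a * g⁻¹ * (g * z * g⁻¹) = g * (a * z) * g⁻¹ by group, (hzc a ha).eq]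
      group
    have := Subgroup.card_dvd_of_le hle
    rw [Subgroup.card_map_of_injective (MulAut.conj g).injective] at this
    exact hS8.trans this)
  let f := MulAut.conj (n₁ * n₂)
  have e1 : f z = s := by
    show n₁ * n₂ * z * (n₁ * n₂)⁻¹ = s
    rw [show n₁ * n₂ * z * (n₁ * n₂)⁻¹ = n₁ * (n₂ * z * n₂⁻¹) * n₁⁻¹ by group, hn2',
      show n₁ * (s * z) * n₁⁻¹ = n₁ * s * n₁⁻¹ * (n₁ * z * n₁⁻¹) by group, hn1',
      hn1.eq, mul_inv_cancel_right, mul_assoc, hzs.eq, ← mul_assoc, invol_mul_self hz, one_mul]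
  have e2 : f s = z * s := by
    show n₁ * n₂ * s * (n₁ * n₂)⁻¹ = z * s
    rw [show n₁ * n₂ * s * (n₁ * n₂)⁻¹ = n₁ * (n₂ * s * n₂⁻¹) * n₁⁻¹ by group, hn2.eq,
      mul_inv_cancel_right, hn1']
  have e3 : f (z * s) = z := by
    rw [map_mul, e1, e2, ← mul_assoc, hzs.eq, mul_assoc, invol_mul_self hs, mul_one]
  have h3 : ∀ w : G, f (f (f w)) = (n₁ * n₂) ^ 3 * w * ((n₁ * n₂) ^ 3)⁻¹ := fun w => by
    show n₁ * n₂ * (n₁ * n₂ * (n₁ * n₂ * w * (n₁ * n₂)⁻¹) * (n₁ * n₂)⁻¹) * (n₁ * n₂)⁻¹ = _

    simp only [pow_succ, pow_zero, one_mul, mul_inv_rev, mul_assoc]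
  have hc3z : Commute ((n₁ * n₂) ^ 3) z := by
    refine mul_inv_eq_iff_eq_mul.1 ?_
    rw [← h3, e1, e2, e3]
  have hc3s : Commute ((n₁ * n₂) ^ 3) s := by
    refine mul_inv_eq_iff_eq_mul.1 ?_
    rw [← h3, e2, e3, e1]
  have h6 : (n₁ * n₂) ^ 6 = 1 := by
    rw [show 6 = 3 * 2 by norm_num, pow_mul]
    rcases h.four_self hz hs hne hzs.symm hc3z hc3s with e | e | e | e <;> rw [e, sq]
    · rw [one_mul]
    · exact invol_mul_self hz
    · exact invol_mul_self hs
    · rw [hzs.mul_mul_mul_comm, invol_mul_self hz, invol_mul_self hs, one_mul]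
  refine dvd_trans ?_ (orderOf_dvd_natCard (n₁ * n₂))
  have hd := orderOf_dvd_of_pow_eq_one h6
  by_contra hn3
  have h2 : orderOf (n₁ * n₂) ∣ 2 := by
    refine (Nat.Coprime.dvd_of_dvd_mul_left (m := 3) ?_ hd)
    exact (Nat.Prime.coprime_iff_not_dvd Nat.prime_three).2 hn3 |>.symm
  have hsq := orderOf_dvd_iff_pow_eq_one.1 h2
  have : f (f z) = z := by
    show n₁ * n₂ * (n₁ * n₂ * z * (n₁ * n₂)⁻¹) * (n₁ * n₂)⁻¹ = z
    rw [show n₁ * n₂ * (n₁ * n₂ * z * (n₁ * n₂)⁻¹) * (n₁ * n₂)⁻¹ =
      (n₁ * n₂) ^ 2 * z * ((n₁ * n₂) ^ 2)⁻¹ by simp only [pow_succ, pow_zero, one_mul, mul_inv_rev, mul_assoc], hsq]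
    rw [inv_one, mul_one, one_mul]
  rw [e1, e2] at this
  exact invol_ne_one hs (mul_eq_left.1 this)

end Cfsg.Agent.Lib.Elem70.SCNC
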