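import Cfsg.Agent.Lib.PGroups.Frattini

/-!
An automorphism of odd prime order of a 2-group with a self-centralising four-group through a
central involution fixes another involution.
-/

set_option autoImplicit false
set_option linter.unusedSectionVars false
set_option linter.style.haveILetI false

namespace Cfsg.Agent.Lib.Elem70.SCNC.Klein

open scoped commutatorElement

universe u

variable {O : Type u} [Group O] [Finite O]

/-- Non-central involutions: those different from the given central one. -/
abbrev Oth (t : O) := {s : O // s * s = 1 ∧ s ≠ 1 ∧ s ≠ t}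

theorem exists_fixed (hO : IsPGroup 2 O) {p : ℕ} (hp : p.Prime) (hp2 : p ≠ 2) (φ : MulAut O)
    (hφp : φ ^ p = 1) {t : O} (htt : t * t = 1) (ht1 : t ≠ 1) (htc : ∀ g : O, g * t = t * g)
    (hφt : φ t = t) (hne : Nonempty (Oth t))
    (hcard : ∀ s : Oth t, Nat.card (Subgroup.centralizer ({(s : O)} : Set O)) = 4) :
    ∃ s : Oth t, φ s = s := by
  classical
  haveI : Fact (Nat.Prime 2) := ⟨Nat.prime_two⟩
  haveI : Fact p.Prime := ⟨hp⟩
  haveI := Fintype.ofFinite O
  let f : O →* O ⧸ commutator O := QuotientGroup.mk' _
  set n := Nat.card (commutator O) with hn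
  have hn0 : 0 < n := Nat.card_pos
  have hlag : Nat.card (O ⧸ commutator O) * n = Nat.card O :=
    (Subgroup.card_eq_card_quotient_mul_card_subgroup _).symm
  -- the quotient is not cyclic
  have h4 : 4 ≤ Nat.card (O ⧸ commutator O) := by
    by_contra hlt
    haveI hc : IsCyclic (O ⧸ commutator O) := by
      have hpos : 0 < Nat.card (O ⧸ commutator O) := Nat.card_pos
      rcases (show Nat.card (O ⧸ commutator O) = 1 ∨ Nat.card (O ⧸ commutator O) = 2 ∨
        Nat.card (O ⧸ commutator O) = 3 by omega) with h | h | h
      · haveI := (Nat.card_eq_one_iff_unique.1 h).1; infer_instance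
      · exact isCyclic_of_prime_card (p := 2) h
      · haveI : Fact (Nat.Prime 3) := ⟨Nat.prime_three⟩; exact isCyclic_of_prime_card h
    haveI := PGroups.isCyclic_of_cyclic_quotient_commutator hO
    obtain ⟨⟨s, hs, hs1, hst⟩⟩ := hne
    haveI := Fintype.ofFinite O
    have h2 : 2 ∣ Fintype.card O := by
      exact (orderOf_eq_prime (p := 2) (x := t) (by rw [sq, htt]) ht1) ▸ orderOf_dvd_card
    have hu := IsCyclic.card_orderOf_eq_totient (α := O) h2
    rw [Nat.totient_two, Finset.card_eq_one] at hu
    obtain ⟨a, ha⟩ := hu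
    have key : ∀ r : O, r * r = 1 → r ≠ 1 → r = a := fun r h1 h2 => by
      have : r ∈ ({a} : Finset O) := by
        rw [← ha]; simp [orderOf_eq_prime (p := 2) (x := r) (by rw [sq, h1]) h2]
      simpa using this
    exact hst ((key s hs hs1).trans (key t htt ht1).symm)
  -- a class fills its coset
  have hclass : ∀ s : Oth t, ∀ y : O, f y = f s → ∃ g : O, g * (s : O) * g⁻¹ = y := by
    intro s
    let C := Subgroup.centralizer ({(s : O)} : Set O)
    let cl : O ⧸ C → {y : O // f y = f (s : O)} := fun q => Quotient.liftOn' q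
      (fun g => ⟨g * (s : O) * g⁻¹, by
        rw [map_mul, map_mul, map_inv,
          show f g * f s = f s * f g by
            rw [← map_mul, ← map_mul]
            exact QuotientGroup.eq.mpr (by
              rw [show (g * (s : O))⁻¹ * ((s : O) * g) = ⁅(s : O)⁻¹, g⁻¹⁆ by
                rw [commutatorElement_def]; group]
              exact Subgroup.commutator_mem_commutator (Subgroup.mem_top _) (Subgroup.mem_top _)),
          mul_inv_cancel_right]⟩)
      (fun a b hab => by
        have h := Subgroup.mem_centralizer_singleton_iff.1 (QuotientGroup.leftRel_apply.1 hab)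
        apply Subtype.ext
        calc a * (s : O) * a⁻¹ = a * ((s : O) * (a⁻¹ * b)) * b⁻¹ := by group
          _ = a * (a⁻¹ * b * (s : O)) * b⁻¹ := by rw [h]
          _ = b * (s : O) * b⁻¹ := by group)
    have hinj : Function.Injective cl := by
      intro a b hab
      induction a using Quotient.inductionOn' with | h a => ?_
      induction b using Quotient.inductionOn' with | h b => ?_
      have h : a * (s : O) * a⁻¹ = b * (s : O) * b⁻¹ := congrArg Subtype.val hab
      refine Quotient.sound' (QuotientGroup.leftRel_apply.2 (Subgroup.mem_centralizer_singleton_iff.2 ?_))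
      calc a⁻¹ * b * (s : O) = a⁻¹ * (b * (s : O) * b⁻¹) * b := by group
        _ = a⁻¹ * (a * (s : O) * a⁻¹) * b := by rw [h]
        _ = (s : O) * (a⁻¹ * b) := by group
    have hfib : Nat.card {y : O // f y = f (s : O)} = n := Nat.card_congr
      { toFun := fun y => ⟨(s : O)⁻¹ * y.1, QuotientGroup.eq.mp y.2.symm⟩
        invFun := fun c => ⟨(s : O) * c.1, by
          rw [map_mul, show f c.1 = 1 from (QuotientGroup.eq_one_iff _).2 c.2, mul_one]⟩
        left_inv := fun y => by simp
        right_inv := fun c => by simp }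
    have hC : Nat.card (O ⧸ C) * 4 = Nat.card O := by
      rw [← hcard s]; exact (Subgroup.card_eq_card_quotient_mul_card_subgroup C).symm
    have hle : n ≤ Nat.card (O ⧸ C) := by
      have := Nat.mul_le_mul_right n h4
      omega
    have hbij : Function.Bijective cl :=
      hinj.bijective_of_nat_card_le (hfib.trans_le hle)
    intro y hy
    obtain ⟨q, hq⟩ := hbij.surjective ⟨y, hy⟩
    induction q using Quotient.inductionOn' with | h g => ?_
    exact ⟨g, congrArg Subtype.val hq⟩
  have hfull : ∀ s : Oth t, ∀ y : O, f y = f s → y * y = 1 ∧ y ≠ 1 ∧ y ≠ t := by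
    intro s y hy
    obtain ⟨g, rfl⟩ := hclass s y hy
    refine ⟨?_, fun h => s.2.2.1 ?_, fun h => s.2.2.2 ?_⟩
    · rw [show g * (s : O) * g⁻¹ * (g * (s : O) * g⁻¹) = g * ((s : O) * (s : O)) * g⁻¹ by group,
        s.2.1, mul_one, mul_inv_cancel]
    · calc (s : O) = g⁻¹ * (g * (s : O) * g⁻¹) * g := by group
        _ = 1 := by rw [h]; group
    · calc (s : O) = g⁻¹ * (g * (s : O) * g⁻¹) * g := by group
        _ = t := by rw [h, mul_assoc, ← htc g, inv_mul_cancel_left]
  let I := {c : O ⧸ commutator O // ∃ s : Oth t, f s = c}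
  have hX : Nat.card (Oth t) = Nat.card I * n := by
    have e : Oth t ≃ I × (commutator O) := {
      toFun := fun s => (⟨f s, s, rfl⟩,
        ⟨(Quotient.out (f (s : O)))⁻¹ * (s : O), QuotientGroup.eq.mp (Quotient.out_eq _)⟩)
      invFun := fun a => ⟨Quotient.out a.1.1 * a.2.1, by
        obtain ⟨s, hs⟩ := a.1.2
        refine hfull s _ ?_
        rw [map_mul, show f a.2.1 = 1 from (QuotientGroup.eq_one_iff _).2 a.2.2, mul_one, hs]
        exact Quotient.out_eq _⟩
      left_inv := fun s => by simp
      right_inv := fun a => by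
        have e : f (Quotient.out a.1.1 * a.2.1) = a.1.1 := by
          rw [map_mul, show f a.2.1 = 1 from (QuotientGroup.eq_one_iff _).2 a.2.2, mul_one]
          exact Quotient.out_eq _
        refine Prod.ext (Subtype.ext e) (Subtype.ext ?_)
        show (Quotient.out (f (Quotient.out a.1.1 * a.2.1)))⁻¹ * (Quotient.out a.1.1 * a.2.1) = a.2.1
        rw [e, inv_mul_cancel_left] }
    rw [Nat.card_congr e, Nat.card_prod]
  have hQ4 : Nat.card (O ⧸ commutator O) = 4 ∧ ∃ j, n = 2 ^ j := by
    refine ⟨?_, (hO.to_subgroup _).exists_card_eq⟩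
    obtain ⟨s⟩ := hne
    have h1 : Nat.card (O ⧸ Subgroup.centralizer ({(s : O)} : Set O)) * 4 = Nat.card O := by
      rw [← hcard s]; exact (Subgroup.card_eq_card_quotient_mul_card_subgroup _).symm
    -- the class lies in the coset
    have h2 : Nat.card (O ⧸ Subgroup.centralizer ({(s : O)} : Set O)) = n := by
      refine le_antisymm ?_ (by have := Nat.mul_le_mul_right n h4; omega)
      refine (Nat.card_le_card_of_injective
        (fun q : O ⧸ Subgroup.centralizer ({(s : O)} : Set O) =>
          (⟨(s : O)⁻¹ * (q.out * (s : O) * q.out⁻¹), by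
            rw [show (s : O)⁻¹ * (q.out * (s : O) * q.out⁻¹) = ⁅(s : O)⁻¹, q.out⁆ by
              rw [commutatorElement_def]; group]
            exact Subgroup.commutator_mem_commutator (Subgroup.mem_top _) (Subgroup.mem_top _)⟩ :
            commutator O)) ?_)
      intro a b hab
      have h : a.out * (s : O) * a.out⁻¹ = b.out * (s : O) * b.out⁻¹ :=
        mul_left_cancel (congrArg Subtype.val hab)
      rw [← Quotient.out_eq a, ← Quotient.out_eq b]
      refine Quotient.sound' (QuotientGroup.leftRel_apply.2 (Subgroup.mem_centralizer_singleton_iff.2 ?_))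
      calc a.out⁻¹ * b.out * (s : O) = a.out⁻¹ * (b.out * (s : O) * b.out⁻¹) * b.out := by group
        _ = a.out⁻¹ * (a.out * (s : O) * a.out⁻¹) * b.out := by rw [h]
        _ = (s : O) * (a.out⁻¹ * b.out) := by group
    rw [h2] at h1
    exact Nat.eq_of_mul_eq_mul_right hn0 (by omega)
  obtain ⟨hQ, j, hj⟩ := hQ4
  have hI4 : Nat.card I < 4 := by
    rw [← hQ]
    refine lt_of_le_of_ne (Finite.card_subtype_le _) fun e => ?_
    have hall : Function.Bijective (Subtype.val : I → O ⧸ commutator O) :=
      Subtype.val_injective.bijective_of_nat_card_le e.ge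
    obtain ⟨c, hc⟩ := hall.surjective 1
    obtain ⟨s, hs⟩ := c.2
    exact (hfull s 1 (by rw [map_one, hs, hc])).2.1 rfl
  have hI1 : 0 < Nat.card I := by
    haveI : Nonempty I := ⟨⟨f (hne.some : O), hne.some, rfl⟩⟩
    exact Nat.card_pos
  have hI3 : Nat.card I ≠ 3 := by
    intro e
    have hall : ∀ y : O, f y ≠ 1 → y * y = 1 ∧ y ≠ 1 ∧ y ≠ t := by
      intro y hy
      by_contra hcon
      let g : Option I → {c : O ⧸ commutator O // c ≠ f y} := fun o => match o with
        | none => ⟨1, Ne.symm hy⟩
        | some c => ⟨c.1, fun h => by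
            obtain ⟨s, hs⟩ := c.2
            exact hcon (hfull s y (by rw [hs, h]))⟩
      have hg : Function.Injective g := by
        rintro (_ | a) (_ | b) hab
        · rfl
        · obtain ⟨s, hs⟩ := b.2
          have h1 : (1 : O ⧸ commutator O) = b.1 := congrArg Subtype.val hab
          exact absurd (hfull s 1 (by rw [map_one, hs, h1])).2.1 (by simp)
        · obtain ⟨s, hs⟩ := a.2
          have h1 : a.1 = (1 : O ⧸ commutator O) := congrArg Subtype.val hab
          exact absurd (hfull s 1 (by rw [map_one, hs, h1])).2.1 (by simp)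
        · exact congrArg some (Subtype.ext (congrArg Subtype.val hab :))
      have h1 := Nat.card_le_card_of_injective g hg
      have h2 : Nat.card {c : O ⧸ commutator O // c ≠ f y} < 4 := by
        rw [← hQ]
        exact Finite.card_subtype_lt (x := f y) (by simp)
      rw [Finite.card_option, e] at h1
      omega
    obtain ⟨s⟩ := hne
    have hfs : f (s : O) ≠ 1 := fun h => (hfull s 1 (by rw [map_one, h])).2.1 rfl
    have hff : f (s : O) * f (s : O) = 1 := by rw [← map_mul, s.2.1, map_one]
    have hcomm : ∀ a b : O, a * a = 1 → b * b = 1 → a * b * (a * b) = 1 → a * b = b * a := by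
      intro a b ha hb hab
      have := inv_eq_of_mul_eq_one_right hab
      rw [mul_inv_rev, inv_eq_of_mul_eq_one_right ha, inv_eq_of_mul_eq_one_right hb] at this
      exact this.symm
    have h1 : ∀ y : O, f y ≠ 1 → f y ≠ f s → (s : O) * y = y * s := fun y hy hys =>
      hcomm _ _ s.2.1 (hall y hy).1 (hall _ (fun h => hys (by
        rw [map_mul] at h
        exact (mul_left_cancel (hff.trans h.symm)).symm))).1
    obtain ⟨b, hb1, hbs⟩ : ∃ b : O, f b ≠ 1 ∧ f b ≠ f s := by
      by_contra hno
      push Not at hno
      have hs2 : Function.Surjective (fun b : Bool => if b then f (s : O) else 1) := fun c => by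
        obtain ⟨y, rfl⟩ := QuotientGroup.mk'_surjective _ c
        by_cases hy : f y = 1
        · exact ⟨false, hy.symm⟩
        · exact ⟨true, (hno y hy).symm⟩
      have := Nat.card_le_card_of_surjective _ hs2
      rw [Nat.card_eq_fintype_card (α := Bool), Fintype.card_bool] at this
      omega
    have hsb := h1 b hb1 hbs
    have htop : ∀ y : O, (s : O) * y = y * s := by
      intro y
      by_cases hy : f y = 1
      · have h2 := h1 (y * b) (by rwa [map_mul, hy, one_mul]) (by rwa [map_mul, hy, one_mul])
        have : Commute (s : O) (y * b * b⁻¹) := Commute.mul_right h2 (Commute.inv_right hsb)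
        rwa [mul_inv_cancel_right] at this
      · by_cases hys : f y = f s
        · have h2 := h1 (y * b) (fun h => hbs (by
              rw [map_mul, hys] at h
              exact (mul_left_cancel (hff.trans h.symm)).symm))
            (fun h => hb1 (by
              rw [map_mul, hys] at h
              exact mul_eq_left.1 h))
          have : Commute (s : O) (y * b * b⁻¹) := Commute.mul_right h2 (Commute.inv_right hsb)
          rwa [mul_inv_cancel_right] at this
        · exact h1 y hy hys
    have hC := hcard s
    rw [show Subgroup.centralizer ({(s : O)} : Set O) = ⊤ from eq_top_iff.2 fun y _ =>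
      Subgroup.mem_centralizer_singleton_iff.2 (htop y).symm, Subgroup.card_top, ← hlag, hQ] at hC
    have hn1 : n = 1 := by omega
    have hbot : commutator O = ⊥ := Subgroup.card_eq_one.1 hn1
    exact (hall t (fun h => ht1 (by
      have := (QuotientGroup.eq_one_iff t).1 h
      rw [hbot, Subgroup.mem_bot] at this
      exact this))).2.2 rfl
  -- an odd permutation of a set of two-power size
  obtain ⟨i, hi⟩ : ∃ i, Nat.card (Oth t) = 2 ^ i := by
    rcases (show Nat.card I = 1 ∨ Nat.card I = 2 by omega) with h | h
    · exact ⟨j, by rw [hX, h, one_mul, hj]⟩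
    · exact ⟨j + 1, by rw [hX, h, hj, pow_succ, mul_comm]⟩
  let σ : Equiv.Perm (Oth t) :=
    { toFun := fun s => ⟨φ s, by rw [← map_mul, s.2.1, map_one],
        fun h => s.2.2.1 (φ.injective (h.trans (map_one φ).symm)),
        fun h => s.2.2.2 (φ.injective (h.trans hφt.symm))⟩
      invFun := fun s => ⟨φ.symm s, by rw [← map_mul, s.2.1, map_one],
        fun h => s.2.2.1 (φ.symm.injective (h.trans (map_one φ.symm).symm)),
        fun h => s.2.2.2 (φ.symm.injective (h.trans
          (φ.injective (by rw [MulEquiv.apply_symm_apply, hφt]) : φ.symm t = t).symm))⟩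
      left_inv := fun s => Subtype.ext (φ.symm_apply_apply s)
      right_inv := fun s => Subtype.ext (φ.apply_symm_apply s) }
  have hσ : ∀ (k : ℕ) (s : Oth t), ((σ ^ k) s : O) = (φ ^ k) (s : O) := by
    intro k
    induction k with
    | zero => intro s; rfl
    | succ k ih =>
      intro s
      rw [pow_succ', pow_succ', Equiv.Perm.mul_apply, MulAut.mul_apply, ← ih]
      rfl
  obtain ⟨s, hs⟩ := σ.exists_fixed_point_of_prime (p := p) (n := 1) (by
      rw [← Nat.card_eq_fintype_card, hi]
      exact fun h => hp2 ((Nat.prime_dvd_prime_iff_eq hp Nat.prime_two).1 (hp.dvd_of_dvd_pow h)))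
    (by rw [pow_one]; ext s; rw [hσ, hφp]; rfl)
  exact ⟨s, congrArg Subtype.val hs⟩

end Cfsg.Agent.Lib.Elem70.SCNC.Klein
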