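import Cfsg.Agent.Lib.Elem70.SCNC.Basic
import Cfsg.Agent.Lib.PSLTwo.ClassSize

/-!
`PSL₂(q)` for `q = 4`, `9` or an odd prime next to a power of two has self-centralising
non-cyclic subgroups.
-/

set_option autoImplicit false
set_option linter.unusedSectionVars false
set_option linter.style.haveILetI false

namespace Cfsg.Agent.Lib.Elem70.SCNC.PSLTwo

open Cfsg.Agent.Lib.PSLTwo.Sylow Cfsg.Agent.Lib.PSLTwo.ClassSize
open Cfsg.Agent.Lib.SL2Tori Cfsg.Agent.Lib.SL2Tori.Products

variable {F : Type} [Field F] [Fintype F]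

local notation "SL" => Matrix.SpecialLinearGroup (Fin 2) F
local notation "q" => Fintype.card F
local notation "P" => Matrix.ProjectiveSpecialLinearGroup (Fin 2) F

theorem isCyclic_of_le {X : Type*} [Group X] {H K : Subgroup X} (hK : IsCyclic K) (h : H ≤ K) :
    IsCyclic H :=
  isCyclic_of_injective _ (Subgroup.inclusion_injective h)

/-- A torus away from trace `±2` is cyclic. -/
theorem isCyclic_torus {g : SL} (hg : NonScalar g) (h4 : slTr g ^ 2 ≠ 4) : IsCyclic (torus g) := by
  obtain ⟨p, hchar⟩ := CharP.exists F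
  haveI : Fact p.Prime := ⟨CharP.char_is_prime F p⟩
  refine Lib.Linear.isCyclic_of_comm_of_coprime p _
    (fun a ha b hb => commute_of_commute hg (mem_torus.mp ha) (mem_torus.mp hb)) ?_
  have hpq : p ∣ q := by
    obtain ⟨n, -, hn⟩ := FiniteField.card F p
    exact hn ▸ dvd_pow_self p n.pos.ne'
  refine Nat.Coprime.symm ((Nat.Prime.coprime_iff_not_dvd Fact.out).2 fun hd => ?_)
  have hp := (Fact.out : p.Prime).two_le
  have hq := Fintype.one_lt_card (α := F)
  rcases card_torus_cases hg with ⟨h, -⟩ | ⟨-, -, h⟩ | ⟨-, -, h⟩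
  · exact h4 h
  · rw [h] at hd
    have := Nat.le_of_dvd (by omega) (Nat.dvd_sub hpq hd)
    rw [show q - (q - 1) = 1 by omega] at this
    omega
  · rw [h] at hd
    have := Nat.le_of_dvd (by omega) (Nat.dvd_sub hd hpq)
    rw [show q + 1 - q = 1 by omega] at this
    omega

theorem isCyclic_map {H : Subgroup SL} (h : IsCyclic H) : IsCyclic (H.map (proj (F := F))) :=
  isCyclic_of_surjective _ (proj.subgroupMap_surjective H)

/-- The torus of a trace-zero element is a two-group. -/
theorem card_torus_zero {g : SL} (hg : NonScalar g) (h2 : (2 : F) ≠ 0) (ht : slTr g = 0)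
    (hq : q = 9 ∨ ∃ k : ℕ, q = 2 ^ k + 1 ∨ q + 1 = 2 ^ k) : ∃ j, Nat.card (torus g) = 2 ^ j := by
  have hne : slTr g ^ 2 ≠ 4 := by
    rw [ht]; intro h
    exact h2 (mul_self_eq_zero.mp (by linear_combination -h))
  -- `g` has order four
  have hgg : orderOf g ∣ Nat.card (torus g) := Subgroup.orderOf_dvd_natCard _ (self_mem_torus g)
  have hsq : g * g = negOne := by
    have hd := det_eq g
    have hs : g.1 1 1 = -g.1 0 0 := by
      have : g.1 0 0 + g.1 1 1 = 0 := ht
      linear_combination this
    rw [hs] at hd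
    apply slExt <;> simp [mul_apply', hs] <;> first
      | ring1
      | linear_combination hd
      | linear_combination -hd
  have h4 : orderOf g = 4 := by
    refine orderOf_eq_prime_pow (p := 2) (n := 1) ?_ ?_
    · rw [pow_one, sq, hsq]; exact negOne_ne_one h2
    · rw [show 2 ^ (1 + 1) = 2 + 2 by norm_num, pow_add, sq, hsq, negOne_sq]
  rw [h4] at hgg
  have hpow : ∀ k : ℕ, 4 ∣ 2 ^ k + 2 → k ≤ 1 := fun k h => by
    by_contra hk
    have := (Nat.dvd_add_right (pow_dvd_pow 2 (show 2 ≤ k by omega))).1 h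
    norm_num at this
  have hpow' : ∀ k : ℕ, 4 ∣ 2 ^ k - 2 → k ≤ 1 := fun k h => by
    by_contra hk
    have h1 : 4 ∣ 2 ^ k := pow_dvd_pow 2 (show 2 ≤ k by omega)
    have h2 : 4 ≤ 2 ^ k := Nat.le_of_dvd (by positivity) h1
    have := Nat.dvd_sub h1 h
    rw [show 2 ^ k - (2 ^ k - 2) = 2 by omega] at this
    norm_num at this
  have hq1 := Fintype.one_lt_card (α := F)
  rcases card_torus_cases hg with ⟨h, -⟩ | ⟨-, -, hc⟩ | ⟨-, -, hc⟩
  · exact absurd h hne
  · rw [hc] at hgg ⊢
    rcases hq with hq | ⟨k, hq | hq⟩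
    · exact ⟨3, by omega⟩
    · exact ⟨k, by omega⟩
    · rw [show q - 1 = 2 ^ k - 2 by omega] at hgg
      have := hpow' k hgg
      rcases (show k = 0 ∨ k = 1 by omega) with rfl | rfl
      · omega
      · exact ⟨0, by omega⟩
  · rw [hc] at hgg ⊢
    rcases hq with hq | ⟨k, hq | hq⟩
    · omega
    · rw [show q + 1 = 2 ^ k + 2 by omega] at hgg
      have := hpow k hgg
      rcases (show k = 0 ∨ k = 1 by omega) with rfl | rfl
      · omega
      · exact ⟨2, by omega⟩
    · exact ⟨k, hq⟩

theorem key (hq : q = 4 ∨ q = 9 ∨ (Nat.Prime q ∧ q ≠ 2 ∧ ∃ k : ℕ, q = 2 ^ k + 1 ∨ q + 1 = 2 ^ k))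
    (y : P) (hy : y ≠ 1) (H : Subgroup P) (hH : H ≤ Subgroup.centralizer ({y} : Set P))
    (hnc : ¬ IsCyclic H) : y ∈ H := by
  classical
  obtain ⟨g, rfl⟩ := proj_surjective y
  have hg : NonScalar g := by
    by_contra h
    exact hy (proj_eq_one_iff.2 (scalar_cases h))
  have hHm : ∀ h ∈ H, ∃ x, x ∈ pre g ∧ proj x = h := fun h hh => by
    obtain ⟨x, rfl⟩ := proj_surjective h
    exact ⟨x, Subgroup.mem_comap.2 (hH hh), rfl⟩
  have hHp : H ≤ (pre g).map proj := fun h hh => hHm h hh
  by_cases hpt : 2 * slTr g ≠ 0 ∨ (2 : F) = 0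
  · rw [pre_eq_torus hpt] at hHp
    by_cases h4 : slTr g ^ 2 = 4
    · -- the unipotent case
      have hc : Nat.card (torus g) = q * Nat.card {w : F // w * w = 1} := by
        rcases card_torus_cases hg with ⟨-, h⟩ | ⟨h, -⟩ | ⟨h, -⟩
        · exact h
        · exact absurd h4 h
        · exact absurd h4 h
      have hT : Nat.card ((torus g).map proj) = q := by
        by_cases h2 : (2 : F) = 0
        · have hinj : Function.Injective (proj (F := F)) := fun a b h => by
            have hneg : (negOne : SL) = 1 := by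
              apply slExt <;> simp [one_apply'] <;> linear_combination -h2
            rcases proj_eq_iff.mp h with h' | h'
            · exact h'.symm
            · rw [hneg, mul_one] at h'
              exact h'.symm
          rw [Subgroup.card_map_of_injective hinj, hc, card_sqrt_one_two h2, mul_one]
        · rw [card_sqrt_one h2] at hc
          have hk : (proj (F := F)).ker ≤ torus g := fun a ha => by
            rcases proj_eq_one_iff.1 (MonoidHom.mem_ker.1 ha) with rfl | rfl
            · exact one_mem _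
            · exact mem_torus.2 (negOne_central g)
          have hker : Nat.card (proj (F := F)).ker = 2 := by
            rw [Nat.card_eq_two_iff]
            refine ⟨1, ⟨negOne, MonoidHom.mem_ker.2 (proj_eq_one_iff.2 (Or.inr rfl))⟩,
              fun h => negOne_ne_one h2 (congrArg Subtype.val h).symm, ?_⟩
            ext ⟨a, ha⟩
            simp only [Set.mem_insert_iff, Set.mem_singleton_iff, Set.mem_univ, iff_true]
            rcases proj_eq_one_iff.1 (MonoidHom.mem_ker.1 ha) with rfl | rfl
            · exact Or.inl (Subtype.ext rfl)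
            · exact Or.inr rfl
          have := Subgroup.relIndex_ker (torus g) (proj (F := F))
          have h1 := Subgroup.card_mul_index ((proj (F := F)).ker.subgroupOf (torus g))
          rw [Nat.card_congr (Subgroup.subgroupOfEquivOfLe hk).toEquiv, hker] at h1
          change 2 * (proj (F := F)).ker.relIndex (torus g) = _ at h1
          rw [this, hc] at h1
          omega
      rcases hq with hq | hq | ⟨hq, -, -⟩
      rotate_left
      rotate_left
      · haveI : Fact (Nat.Prime (Fintype.card F)) := ⟨hq⟩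
        exact absurd (isCyclic_of_le (isCyclic_of_prime_card hT) hHp) hnc
      all_goals
        have hHc : Nat.card H ∣ Nat.card ((torus g).map proj) := Subgroup.card_dvd_of_le hHp
        rw [hT, hq] at hHc
        obtain ⟨p, hp, hpq⟩ : ∃ p, p.Prime ∧ p ^ 2 = q :=
          by first | exact ⟨2, Nat.prime_two, by omega⟩ | exact ⟨3, Nat.prime_three, by omega⟩
        haveI := Fact.mk hp
        rw [← hq, ← hpq] at hHc
        obtain ⟨i, hi, hHi⟩ := (Nat.dvd_prime_pow hp).1 hHc
        rcases (show i = 0 ∨ i = 1 ∨ i = 2 by omega) with rfl | rfl | rfl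
        · haveI : Subsingleton H := (Nat.card_eq_one_iff_unique.1 (hHi.trans (pow_zero p))).1
          exact (hnc inferInstance).elim
        · exact absurd (isCyclic_of_prime_card (hHi.trans (pow_one p))) hnc
        · rw [Subgroup.eq_of_le_of_card_ge hHp (by rw [hT, hHi, hpq])]
          exact ⟨g, self_mem_torus g, rfl⟩
    · exact absurd (isCyclic_of_le (isCyclic_map (isCyclic_torus hg h4)) hHp) hnc
  · -- trace zero
    push Not at hpt
    obtain ⟨ht0, h2⟩ := hpt
    have ht : slTr g = 0 := (mul_eq_zero.mp ht0).resolve_left h2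
    have hne : slTr g ^ 2 ≠ 4 := by
      rw [ht]; intro h
      exact h2 (mul_self_eq_zero.mp (by linear_combination -h))
    obtain ⟨j, hj⟩ := card_torus_zero hg h2 ht (by
      rcases hq with hq | hq | ⟨-, -, hq⟩
      · exfalso
        apply h2
        obtain ⟨p, hchar⟩ := CharP.exists F
        haveI : Fact p.Prime := ⟨CharP.char_is_prime F p⟩
        obtain ⟨n, -, hn⟩ := FiniteField.card F p
        have hp : p = 2 := (Nat.prime_dvd_prime_iff_eq Fact.out Nat.prime_two).1
          ((Fact.out : p.Prime).dvd_of_dvd_pow (show p ∣ 2 ^ 2 by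
            rw [show (2 : ℕ) ^ 2 = p ^ (n : ℕ) by rw [← hn, hq]; norm_num]
            exact dvd_pow_self p n.pos.ne'))
        subst hp
        exact_mod_cast CharP.cast_eq_zero F 2
      · exact Or.inl hq
      · exact Or.inr hq)
    set T := (torus g).map (proj (F := F))
    have hTc : IsCyclic T := isCyclic_map (isCyclic_torus hg hne)
    haveI : Fact (Nat.Prime 2) := ⟨Nat.prime_two⟩
    by_cases hmeet : H ⊓ T = ⊥
    · exfalso
      -- two elements outside `T` multiply into `T`
      have hprod : ∀ a ∈ H, ∀ b ∈ H, a ∉ T → b ∉ T → a = b⁻¹ := fun a ha b hb haT hbT => by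
        obtain ⟨x, hx, rfl⟩ := hHm a ha
        obtain ⟨z, hz, rfl⟩ := hHm b hb
        have hx' := (mem_pre.1 hx).resolve_left fun h => haT ⟨x, mem_torus.2 h, rfl⟩
        have hz' := (mem_pre.1 hz).resolve_left fun h => hbT ⟨z, mem_torus.2 h, rfl⟩
        have : proj x * proj z ∈ H ⊓ T := ⟨mul_mem ha hb, ⟨x * z, mem_torus.2 (by
          calc x * z * g = x * (g * z * negOne) := by rw [mul_assoc, hz']
            _ = g * x * negOne * z * negOne := by rw [mul_assoc g, ← mul_assoc, ← mul_assoc, hx']
            _ = g * (x * z) := by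
              simp only [mul_assoc]
              rw [← negOne_central z, ← mul_assoc negOne negOne, negOne_sq, one_mul]), map_mul _ _ _⟩⟩
        rw [hmeet, Subgroup.mem_bot] at this
        exact eq_inv_of_mul_eq_one_left this
      by_cases hex : ∃ a ∈ H, a ∉ T
      · obtain ⟨a, ha, haT⟩ := hex
        have haa : a⁻¹ = a := (hprod a ha a ha haT haT).symm
        refine hnc ⟨⟨a, ha⟩, fun ⟨b, hb⟩ => ?_⟩
        by_cases hbT : b ∈ T
        · have : b ∈ H ⊓ T := ⟨hb, hbT⟩
          rw [hmeet, Subgroup.mem_bot] at this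
          exact ⟨0, Subtype.ext (by simp [this])⟩
        · refine ⟨1, Subtype.ext ?_⟩
          simp only [zpow_one]
          rw [hprod b hb a ha hbT haT, haa]
      · push Not at hex
        exact hnc (isCyclic_of_le hTc fun a ha => hex a ha)
    · obtain ⟨r, hr⟩ : ∃ r : (H ⊓ T : Subgroup P), orderOf r = 2 := by
        refine exists_prime_orderOf_dvd_card' 2 ?_
        have hT2 : IsPGroup 2 T := (IsPGroup.of_card hj).map proj
        obtain ⟨m, hm⟩ := (hT2.to_le (inf_le_right : H ⊓ T ≤ T)).exists_card_eq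
        rcases m with _ | m
        · exact absurd (Subgroup.card_eq_one.1 (hm.trans (pow_zero 2))) hmeet
        · rw [hm]; exact dvd_pow_self 2 (Nat.succ_ne_zero m)
      by_contra hyH
      refine not_isCyclic_of_two (H := T) (a := (r : P)) (b := proj g) r.2.2
        ⟨g, self_mem_torus g, rfl⟩ (by rw [Subgroup.orderOf_coe, hr]) ?_ (fun e => hyH (e ▸ r.2.1)) hTc
      refine orderOf_eq_prime ?_ hy
      rw [sq, ← map_mul, proj_eq_one_iff]
      right
      have hd := det_eq g
      have hs : g.1 1 1 = -g.1 0 0 := by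
        have : g.1 0 0 + g.1 1 1 = 0 := ht
        linear_combination this
      rw [hs] at hd
      apply slExt <;> simp [mul_apply', hs] <;> first
        | ring1
        | linear_combination hd
        | linear_combination -hd

/-- The property for these fields. -/
theorem prop (hq : q = 4 ∨ q = 9 ∨ (Nat.Prime q ∧ q ≠ 2 ∧ ∃ k : ℕ, q = 2 ^ k + 1 ∨ q + 1 = 2 ^ k)) :
    Prop' P := by
  intro H hnc y hy
  by_cases h1 : y = 1
  · exact h1 ▸ one_mem H
  · exact key hq y h1 H (fun h hh => Subgroup.mem_centralizer_singleton_iff.2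
      (Subgroup.mem_centralizer_iff.1 hy h hh)) hnc

end Cfsg.Agent.Lib.Elem70.SCNC.PSLTwo
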