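import Cfsg.Prelude.Def_Exceptional
import Cfsg.Agent.Lib.Elem70.SCNC.PSLTwo
import Cfsg.Agent.Lib.PSLTwo.TripleFactor
import Cfsg.Agent.Lib.Hall.Converse
import Cfsg.Agent.Lib.Linear.Order

/-!
The classification of simple groups with self-centralising non-cyclic subgroups, given that of the
simple groups whose involution centralisers are 2-groups.
-/

set_option autoImplicit false
set_option linter.unusedSectionVars false
set_option linter.style.haveILetI false

namespace Cfsg.Agent.Lib.Elem70.SCNC

universe u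

/-- The simple groups in which the centralizers of involutions are 2-groups. -/
def CITClass : Prop :=
  ∀ (S : Type u) [Group S] [Finite S] [IsSimpleGroup S], (∃ a b : S, a * b ≠ b * a) →
    (∀ t : S, orderOf t = 2 → IsPGroup 2 (Subgroup.centralizer ({t} : Set S))) →
    (∃ (F : Type) (_ : Field F) (_ : Fintype F),
        (Fintype.card F = 9 ∨ (∃ n : ℕ, Fintype.card F = 2 ^ n) ∨
          ((Fintype.card F).Prime ∧ ∃ k : ℕ, Fintype.card F = 2 ^ k + 1 ∨ Fintype.card F + 1 = 2 ^ k)) ∧
        Nonempty (S ≃* Matrix.ProjectiveSpecialLinearGroup (Fin 2) F)) ∨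
    (∃ (F : Type) (_ : Field F) (_ : Fintype F), Fintype.card F = 4 ∧
        Nonempty (S ≃* Matrix.ProjectiveSpecialLinearGroup (Fin 3) F)) ∨
    Cfsg.IsSuzuki S

variable {G : Type u} [Group G]

theorem Prop'.of_equiv {H : Type*} [Group H] (e : G ≃* H)
    (h : ∀ K : Subgroup H, ¬ IsCyclic ↥K → Subgroup.centralizer (K : Set H) ≤ K) : Prop' G := by
  intro K hK g hg
  have hK' : ¬ IsCyclic ↥(K.map e.toMonoidHom) := fun hc => hK (by
    haveI := hc
    exact (K.equivMapOfInjective e.toMonoidHom e.injective).isCyclic.2 inferInstance)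
  obtain ⟨k, hk, hke⟩ := h _ hK' (show e g ∈ Subgroup.centralizer _ from
    Subgroup.mem_centralizer_iff.2 (by
      rintro _ ⟨a, ha, rfl⟩
      show e a * e g = e g * e a
      rw [← map_mul, ← map_mul, Subgroup.mem_centralizer_iff.1 hg a ha]))
  exact e.injective hke ▸ hk

section SLThree

variable {F : Type*} [Field F]

/-- An elementary abelian subgroup of `SL₃`. -/
def row (F : Type*) [Field F] :
    Multiplicative (F × F) →* Matrix.SpecialLinearGroup (Fin 3) F where
  toFun a := ⟨!![1, a.toAdd.1, a.toAdd.2; 0, 1, 0; 0, 0, 1], by simp [Matrix.det_fin_three]⟩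
  map_one' := by ext i j; fin_cases i <;> fin_cases j <;> simp
  map_mul' a b := by
    refine Subtype.ext ?_
    show _ = (!![1, a.toAdd.1, a.toAdd.2; 0, 1, 0; 0, 0, 1] : Matrix (Fin 3) (Fin 3) F) *
      !![1, b.toAdd.1, b.toAdd.2; 0, 1, 0; 0, 0, 1]
    ext i j
    fin_cases i <;> fin_cases j <;> simp [Matrix.mul_apply, Fin.sum_univ_three, add_comm]

theorem row_proj_injective :
    Function.Injective ((QuotientGroup.mk' (Subgroup.center (Matrix.SpecialLinearGroup (Fin 3) F))).comp
      (row F)) := by
  rw [injective_iff_map_eq_one]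
  intro a ha
  have hc := (QuotientGroup.eq_one_iff _).1 ha
  rw [Matrix.SpecialLinearGroup.mem_center_iff] at hc
  obtain ⟨r, -, hr⟩ := hc
  have h1 := congrFun (congrFun hr 0) 1
  have h2 := congrFun (congrFun hr 0) 2
  simp [row, Matrix.scalar_apply] at h1 h2
  exact Multiplicative.toAdd.injective (Prod.ext h1.symm h2.symm)

end SLThree

variable [Finite G] [IsSimpleGroup G]

theorem not_isSolvable (hna : ¬ IsMulCommutative G) : ¬ Group.IsSolvable G := fun hs =>
  hna ⟨⟨IsSimpleGroup.comm_iff_isSolvable.2 hs⟩⟩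

theorem card_ne_six (hna : ¬ IsMulCommutative G) : Nat.card G ≠ 6 := fun h =>
  not_isSolvable hna (Hall.Converse.isSolvable_of_card_primeFactors_le_two (by
    rw [h, show (6 : ℕ) = 2 * 3 by norm_num, Nat.primeFactors_mul (by norm_num) (by norm_num),
      Nat.prime_two.primeFactors, Nat.prime_three.primeFactors]
    decide))

theorem card_field_ne_two (hna : ¬ IsMulCommutative G) {F : Type} [Field F] [Fintype F]
    (e : G ≃* Matrix.ProjectiveSpecialLinearGroup (Fin 2) F) : Fintype.card F ≠ 2 := fun h => by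
  have hcard := Linear.card_PSL_two_of_even (F := F) (by rw [h]; exact even_two)
  rw [h, ← Nat.card_congr e.toEquiv] at hcard
  exact card_ne_six hna hcard

theorem main (hcit : CITClass.{u}) (hna : ¬ IsMulCommutative G) :
    (∀ H : Subgroup G, ¬ IsCyclic ↥H → Subgroup.centralizer (H : Set G) ≤ H) ↔
      ∃ (F : Type) (_ : Field F) (_ : Fintype F),
      (Fintype.card F = 4 ∨ Fintype.card F = 9 ∨ ((Fintype.card F).Prime ∧
        ∃ k : ℕ, Fintype.card F = 2 ^ k + 1 ∨ Fintype.card F = 2 ^ k - 1)) ∧
      Nonempty (G ≃* Matrix.ProjectiveSpecialLinearGroup (Fin 2) F) := by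
  constructor
  · intro h
    have hne : ∃ a b : G, a * b ≠ b * a := by
      by_contra hc
      push Not at hc
      exact hna ⟨⟨hc⟩⟩
    have hP : Prop' G := h
    rcases hcit G hne (fun t ht => hP.cit hna ht) with
      ⟨F, _, _, hF, ⟨e⟩⟩ | ⟨F, _, _, hF, ⟨e⟩⟩ | hSz
    · refine ⟨F, inferInstance, inferInstance, ?_, ⟨e⟩⟩
      rcases hF with h9 | ⟨n, hn⟩ | ⟨hp, k, hk⟩
      · exact Or.inr (Or.inl h9)
      · left
        have hq := Fintype.one_lt_card (α := F)
        rcases n with _ | _ | _ | n
        · simp [hn] at hq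
        · exact absurd hn (card_field_ne_two hna e)
        · rw [hn]; norm_num
        · exfalso
          have h8 : 8 ≤ Fintype.card F := by
            rw [hn, show n + 1 + 1 + 1 = n + 3 from rfl, pow_add]
            exact Nat.le_mul_of_pos_left 8 (by positivity)
          obtain ⟨A, B, -, -, hBc, hB2, hBcard, -⟩ :=
            Lib.PSLTwo.TripleFactor.exists_aba (F := F) (hn ▸ dvd_pow_self 2 (Nat.succ_ne_zero _))
              (by omega)
          have := hP.card_le_four (B.map e.symm.toMonoidHom) (by
              rintro _ ⟨a, ha, rfl⟩ _ ⟨b, hb, rfl⟩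
              rw [← map_mul, ← map_mul]
              exact congrArg _ (congrArg Subtype.val (hBc.is_comm.comm ⟨a, ha⟩ ⟨b, hb⟩)))
            (by
              rintro _ ⟨a, ha, rfl⟩
              rw [← map_mul, hB2 a ha, map_one])
          rw [Subgroup.card_map_of_injective e.symm.injective, hBcard] at this
          omega
      · refine Or.inr (Or.inr ⟨hp, k, hk.imp id fun h => by omega⟩)
    · exfalso
      let f : Multiplicative (F × F) →* G := e.symm.toMonoidHom.comp
        ((QuotientGroup.mk' (Subgroup.center (Matrix.SpecialLinearGroup (Fin 3) F))).comp (row F))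
      have hinj : Function.Injective f := e.symm.injective.comp row_proj_injective
      have h2 : (2 : F) = 0 := by
        obtain ⟨p, hchar⟩ := CharP.exists F
        haveI : Fact p.Prime := ⟨CharP.char_is_prime F p⟩
        obtain ⟨n, -, hn⟩ := FiniteField.card F p
        have hp : p = 2 := (Nat.prime_dvd_prime_iff_eq Fact.out Nat.prime_two).1
          ((Fact.out : p.Prime).dvd_of_dvd_pow (show p ∣ 2 ^ 2 by
            rw [show (2 : ℕ) ^ 2 = p ^ (n : ℕ) by rw [← hn, hF]; norm_num]
            exact dvd_pow_self p n.pos.ne'))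
        subst hp
        exact_mod_cast CharP.cast_eq_zero F 2
      have := hP.card_le_four f.range (by
          rintro _ ⟨a, rfl⟩ _ ⟨b, rfl⟩
          rw [← map_mul, ← map_mul, mul_comm])
        (by
          rintro _ ⟨a, rfl⟩
          rw [← map_mul, show a * a = 1 from Multiplicative.toAdd.injective
            (Prod.ext (show a.toAdd.1 + a.toAdd.1 = 0 by linear_combination a.toAdd.1 * h2)
              (show a.toAdd.2 + a.toAdd.2 = 0 by linear_combination a.toAdd.2 * h2)), map_one])
      rw [← Nat.card_congr (MonoidHom.ofInjective hinj).toEquiv,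
        Nat.card_congr (Multiplicative.toAdd (α := F × F)), Nat.card_prod,
        Nat.card_eq_fintype_card, hF] at this
      omega
    · exfalso
      obtain ⟨m, hm, hcard⟩ := hSz.2
      have h3 := hP.three_dvd hna (by
        rw [hcard]
        refine Dvd.dvd.mul_right (Dvd.dvd.mul_right ?_ _) _
        rw [← pow_mul]
        exact pow_dvd_pow 2 (show 3 ≤ (2 * m + 1) * 2 by omega))
      have hq : 2 ^ (2 * m + 1) % 3 = 2 := by
        rw [pow_succ, pow_mul, Nat.mul_mod, Nat.pow_mod]; norm_num
      rw [hcard] at h3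
      have h23 : (2 ^ (2 * m + 1)) ^ 2 % 3 = 1 := by rw [sq, Nat.mul_mod, hq]
      generalize 2 ^ (2 * m + 1) = x at hq h23 h3
      rcases (Nat.Prime.dvd_mul Nat.prime_three).1 h3 with h3 | h3
      · rcases (Nat.Prime.dvd_mul Nat.prime_three).1 h3 with h3 | h3 <;> omega
      · omega
  · rintro ⟨F, _, _, hF, ⟨e⟩⟩
    refine Prop'.of_equiv e (PSLTwo.prop ?_)
    rcases hF with h | h | ⟨hp, k, hk⟩
    · exact Or.inl h
    · exact Or.inr (Or.inl h)
    · exact Or.inr (Or.inr ⟨hp, card_field_ne_two hna e, k, hk.imp id fun h => by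
        have := hp.two_le
        omega⟩)

end Cfsg.Agent.Lib.Elem70.SCNC
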